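import Cfsg.Agent.H892.EP.Rows
import Cfsg.Agent.H996.PQ.Rows

/-!
# S4929: characters of even degree in the principal block by the trace test (helper159)

`Full` (helper996): certificates for all constituents of `1_P^G`, `P` a maximal parabolic subgroup. If `p ∣ |G : P|`, the
sum of the degrees of the constituents in the principal `p`-block is divisible by `p`. So if `p` divides the degree of the
only nontrivial constituent `i₁` of odd degree, there is a constituent of even degree in the principal block.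
-/

set_option autoImplicit false
set_option linter.unusedSectionVars false

open scoped ComplexConjugate
open Cfsg Cfsg.Agent.Characters.Core Cfsg.Agent.H892.EP

namespace Cfsg.Agent.H159.EP

open Cfsg Cfsg.Agent.H967.Sph Cfsg.Agent.H317.PQ Cfsg.Agent.Blocks.Basic Cfsg.Agent.Blocks.Local Cfsg.Agent.H64.Dl.Sph
  Cfsg.Agent.H996.Eight.Cert Cfsg.Agent.H996.PQ
open CoxeterSystem Cfsg.Agent.ChevalleyStructure.CoxeterGeom Cfsg.Agent.Tits.Roots Cfsg.Agent.Tits.Core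
  Cfsg.Agent.Nodes.Reps Cfsg.Agent.Nodes.BNOf Cfsg.Agent.Nodes.Bruhat Cfsg.Agent.Nodes.LeviDec

universe u

variable {l : ℕ} [NeZero l] {A : Fin l → Fin l → ℤ} {j : Fin l} {N m : ℕ} {α₀ : Fin l → ℤ} (Fu : Full A j N m α₀)
    {W : Type*} {Y : Type u} [Group W] [Finite W] [Group Y] [Finite Y]
    {M : CoxeterMatrix (Fin l)} {cs : CoxeterSystem M W} {h : IsCartan M A} {p : ℕ} {T : Subgroup Y}
    {n : Fin l → Y} {X : (Fin l → ℤ) → Subgroup Y} (R : RGD cs h p T n X) (hG : GG cs h T X = ⊤)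
    {x : ℕ} (hx : 2 ≤ x) (hq : ∀ i, Nat.card (X (sr i)) = x ^ Fu.Da.e i)

include hx

/-- even degrees: `P.dn i` modulo `2 den` -/
theorem even_deg (i : Fin m) {d : ℕ} (hd : Fu.P.den i = d) (hd0 : 0 < d) {a : ℤ} (ha : (x : ℤ) % (2 * d) = a)
    (h1 : evZ a (Fu.P.dn i) % (2 * d) = 0) : 2 ∣ Fu.P.deg x i := by
  have h2 := Fu.degZ hx i
  have h3 := evZ_emod (2 * d) (x : ℤ) (Fu.P.dn i)
  rw [ha, h1, ← h2, hd] at h3
  obtain ⟨k, hk⟩ := Int.dvd_of_emod_eq_zero h3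
  have h4 : (d : ℤ) ≠ 0 := by exact_mod_cast hd0.ne'
  have h5 : (Fu.P.deg x i : ℤ) = 2 * k := by
    refine mul_left_cancel₀ h4 ?_
    rw [hk]
    ring
  have h6 : (2 : ℤ) ∣ (Fu.P.deg x i : ℤ) := ⟨k, h5⟩
  exact_mod_cast h6

include hq R hG in
/-- **The trace test.** -/
theorem evAt_of_test {p' : ℕ} [Fact p'.Prime] (hN : (p' : ℤ) ∣ evZ x Fu.P.N)
    (hS : ∀ S : Finset (Fin m), Fu.i₀ ∈ S → (p' : ℤ) ∣ ∑ i ∈ S, (Fu.P.deg x i : ℤ) → ∃ i ∈ S, 2 ∣ Fu.P.deg x i) :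
    EvAt p' Y := by
  classical
  have hp' : p'.Prime := Fact.out
  obtain ⟨χ, hχ0, F⟩ := Fu.exists_fam R hG hx hq
  have hNN : (Nat.card (Y ⧸ PJ cs h T X {i | i ≠ j}) : ℚ) = ev x Fu.P.N :=
    card_quot_data R hG Fu.Da hq Fu.hN
  have hNZ : ((Nat.card (Y ⧸ PJ cs h T X {i | i ≠ j}) : ℕ) : ℤ) = evZ x Fu.P.N := by
    have h1 := evZ_cast (x : ℤ) Fu.P.N
    push_cast at h1
    rw [← hNN] at h1
    exact_mod_cast h1.symm
  have h3 : ∀ i, charDegree (F.irr i : Y → ℂ) = Fu.P.deg x i := fun i => F.charDegree_irr i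
  have hS' : ∀ i, i ∈ Finset.univ.filter (fun i => F.irr i ∈ B0 p' Y) ↔ F.irr i ∈ B0 p' Y := by
    intro i
    rw [Finset.mem_filter]
    exact ⟨fun h => h.2, fun h => ⟨Finset.mem_univ _, h⟩⟩
  have h1 := (H329.PQ.trace_test hp' F.mf _ hS').1 1 (by
    rw [pow_one, ← Int.natCast_dvd_natCast, hNZ]
    exact hN)
  simp only [h3, pow_one] at h1
  obtain ⟨i, hi, h2⟩ := hS _ (by
    rw [hS']
    intro M hM
    have hMp : M.IsPrime := isPrime_of_isPModular hM
    have h1 : F.irr Fu.i₀ = ⟨fun _ => 1, isIrrCharacter_one⟩ := Subtype.ext hχ0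
    rw [h1]
    exact Blocks.PrincipalSection.one_mem_principalBlock) (by
    have h4 := Int.natCast_dvd_natCast.2 h1
    push_cast at h4
    exact h4)
  intro M hM
  exact ⟨F.irr i, (hS' i).1 hi M hM, by rw [h3]; exact h2⟩

include hq R hG in
/-- **The principal block contains a character of even degree** if `p` divides the index and the degree of the only
nontrivial constituent of odd degree. -/
theorem evAt_of_full {p' : ℕ} [Fact p'.Prime] (hN : (p' : ℤ) ∣ evZ x Fu.P.N) (i₁ : Fin m)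
    (h1 : (p' : ℤ) ∣ evZ x (Fu.P.dn i₁)) (h1' : ¬ p' ∣ Fu.P.den i₁)
    (h2 : ∀ i, i ≠ Fu.i₀ → i ≠ i₁ → 2 ∣ Fu.P.deg x i) : EvAt p' Y := by
  classical
  have hp' : p'.Prime := Fact.out
  refine evAt_of_test Fu R hG hx hq hN fun S h0 hS => ?_
  by_contra hcon
  push Not at hcon
  have h3 : (p' : ℤ) ∣ (Fu.P.deg x i₁ : ℤ) := by
    have h4 := Fu.degZ hx i₁
    rw [← h4] at h1
    rcases Int.Prime.dvd_mul' hp' h1 with h5 | h5
    · exact absurd (Int.natCast_dvd_natCast.1 h5) h1'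
    · exact h5
  have h4 : Fu.P.deg x Fu.i₀ = 1 := by
    have h5 := Fu.degZ hx Fu.i₀
    have h6 : Fu.P.dn Fu.i₀ = [1] := by rw [Fu.hP.1]; exact Fu.triv.2.1
    have h7 : Fu.P.den Fu.i₀ = 1 := by rw [Fu.hP.2.1]; exact Fu.triv.2.2
    rw [h6, h7] at h5
    simp only [evZ, Nat.cast_one, one_mul, mul_zero, add_zero] at h5
    exact_mod_cast h5
  have h5 : (p' : ℤ) ∣ ∑ i ∈ S.erase Fu.i₀, (Fu.P.deg x i : ℤ) := by
    refine Finset.dvd_sum fun i hi => ?_
    rw [Finset.mem_erase] at hi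
    by_cases h6 : i = i₁
    · rw [h6]
      exact h3
    · exact absurd (h2 i hi.1 h6) (hcon i hi.2)
  rw [← Finset.add_sum_erase S _ h0, h4] at hS
  have h6 : (p' : ℤ) ∣ ((1 : ℕ) : ℤ) := (dvd_add_left h5).1 hS
  exact hp'.one_lt.ne' (Nat.dvd_one.1 (Int.natCast_dvd_natCast.1 h6))

end Cfsg.Agent.H159.EP
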